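import Mathlib

/-!
# Homogeneous components on modules over a ℤ-graded ring (helper9)

A light-weight framework for ℤ-graded modules over a ℤ-graded commutative ring `(S, 𝒜)`:
a `Comps 𝒜 N` is a family of additive "component" maps `c j : N →+ N` with the usual axioms.
Instances: graded modules with a `DirectSum.Decomposition` (`modComps`), the ring itself
(`ringComps`), and shifted free modules `Fin n → S` with basis degrees `deg` (`shiftComps`).
Main results: `Comps.exists_irred_gens` (irredundant homogeneous generators of a f.g. homogeneous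
submodule), `c_linearCombination`, `isHomog_ker_linearCombination`.
-/

set_option autoImplicit false
set_option linter.unusedSectionVars false
universe u v w

open DirectSum

namespace Groth.Agent.Helper9.GrMod

variable {S : Type u} [CommRing S] {σ' : Type w} [SetLike σ' S]
  (𝒜 : ℤ → σ')

/-- component structure on an `S`-module -/
structure Comps (N : Type v) [AddCommGroup N] [Module S N] where
  c : ℤ → N →+ N
  orth : ∀ i j x, c i (c j x) = if i = j then c j x else 0
  fin : ∀ x, ∃ s : Finset ℤ, (∀ j, j ∉ s → c j x = 0) ∧ x = ∑ j ∈ s, c j x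
  smul : ∀ (e : ℤ) (p : S), p ∈ 𝒜 e → ∀ j x, c j (p • x) = p • c (j - e) x

namespace Comps

variable {𝒜} {N : Type v} [AddCommGroup N] [Module S N] (C : Comps 𝒜 N)

/-- homogeneous of degree `e` -/
def IsHom (e : ℤ) (x : N) : Prop := C.c e x = x

lemma isHom_c (j : ℤ) (x : N) : C.IsHom j (C.c j x) := by
  unfold IsHom
  rw [C.orth, if_pos rfl]

lemma c_of_isHom {e : ℤ} {x : N} (h : C.IsHom e x) (j : ℤ) :
    C.c j x = if j = e then x else 0 := by
  have := C.orth j e x
  rw [h] at this
  exact this

lemma isHom_zero (e : ℤ) : C.IsHom e (0 : N) := map_zero _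

/-- a submodule closed under taking components -/
def IsHomog (K : Submodule S N) : Prop := ∀ x ∈ K, ∀ j, C.c j x ∈ K

/-- finitely many homogeneous generators -/
theorem exists_homog_gens (K : Submodule S N) (hK : C.IsHomog K) (hfg : K.FG) :
    ∃ (m : ℕ) (g : Fin m → N) (e : Fin m → ℤ), (∀ b, C.IsHom (e b) (g b)) ∧
      Submodule.span S (Set.range g) = K := by
  classical
  obtain ⟨n, f, hf⟩ := Submodule.fg_iff_exists_fin_generating_family.1 hfg
  choose s hs0 hs using C.fin
  let T := Σ i : Fin n, (s (f i) : Finset ℤ)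
  let eq : T ≃ Fin (Fintype.card T) := Fintype.equivFin T
  refine ⟨Fintype.card T, fun b => C.c (eq.symm b).2.1 (f (eq.symm b).1),
    fun b => (eq.symm b).2.1, fun b => C.isHom_c _ _, ?_⟩
  apply le_antisymm
  · rw [Submodule.span_le]
    rintro _ ⟨b, rfl⟩
    apply hK
    rw [← hf]
    exact Submodule.subset_span ⟨_, rfl⟩
  · rw [← hf, Submodule.span_le]
    rintro _ ⟨i, rfl⟩
    rw [SetLike.mem_coe, hs (f i)]
    apply Submodule.sum_mem
    intro j hj
    apply Submodule.subset_span
    refine ⟨eq ⟨i, ⟨j, hj⟩⟩, ?_⟩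
    show C.c (eq.symm (eq ⟨i, ⟨j, hj⟩⟩)).2.1 (f (eq.symm (eq ⟨i, ⟨j, hj⟩⟩)).1) = _
    rw [Equiv.symm_apply_apply]

/-- irredundant homogeneous generators -/
theorem exists_irred_gens (K : Submodule S N) (hK : C.IsHomog K) (hfg : K.FG) :
    ∃ (m : ℕ) (g : Fin m → N) (e : Fin m → ℤ), (∀ b, C.IsHom (e b) (g b)) ∧
      Submodule.span S (Set.range g) = K ∧
      ∀ b, g b ∉ Submodule.span S (g '' {b' | b' ≠ b}) := by
  classical
  let P : ℕ → Prop := fun m => ∃ (g : Fin m → N) (e : Fin m → ℤ), (∀ b, C.IsHom (e b) (g b)) ∧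
      Submodule.span S (Set.range g) = K
  have hP : ∃ m, P m := by
    obtain ⟨m, g, e, h1, h2⟩ := C.exists_homog_gens K hK hfg
    exact ⟨m, g, e, h1, h2⟩
  obtain ⟨g, e, h1, h2⟩ := Nat.find_spec hP
  refine ⟨Nat.find hP, g, e, h1, h2, ?_⟩
  intro b hb
  -- remove b
  obtain ⟨m', hm'⟩ : ∃ m', Nat.find hP = m' + 1 := by
    cases hm : Nat.find hP with
    | zero => exact (hm ▸ b).elim0
    | succ m' => exact ⟨m', rfl⟩
  have hlt : m' < Nat.find hP := by omega
  apply Nat.find_min hP hlt
  clear hlt
  revert g e b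
  rw [hm']
  intro g e h1 h2 b hb
  refine ⟨g ∘ b.succAbove, e ∘ b.succAbove, fun b' => h1 _, ?_⟩
  have hr : Set.range (g ∘ b.succAbove) = g '' {b' | b' ≠ b} := by
    rw [Set.range_comp, Fin.range_succAbove]
    rfl
  rw [hr, ← h2]
  apply le_antisymm
  · exact Submodule.span_mono (Set.image_subset_range _ _)
  · rw [Submodule.span_le]
    rintro _ ⟨b', rfl⟩
    by_cases hbb : b' = b
    · subst hbb; exact hb
    · exact Submodule.subset_span ⟨b', hbb, rfl⟩

end Comps

section instances

variable [AddSubmonoidClass σ' S] [GradedRing 𝒜]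
variable {M : Type v} [AddCommGroup M] [Module S M] {τ : Type*} [SetLike τ M]
  [AddSubmonoidClass τ M] (ℳ : ℤ → τ) [DirectSum.Decomposition ℳ] [SetLike.GradedSMul 𝒜 ℳ]

/-- the `j`-th component as an additive map -/
noncomputable def compHom (j : ℤ) : M →+ M :=
  (AddSubmonoidClass.subtype (ℳ j)).comp
    ((DFinsupp.evalAddMonoidHom j).comp (DirectSum.decomposeAddEquiv ℳ).toAddMonoidHom)

lemma compHom_apply (j : ℤ) (x : M) : compHom ℳ j x = (DirectSum.decompose ℳ x j : M) := rfl

lemma compHom_mem (j : ℤ) (x : M) : compHom ℳ j x ∈ ℳ j := (DirectSum.decompose ℳ x j).2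

lemma compHom_of_mem {i : ℤ} {x : M} (hx : x ∈ ℳ i) (j : ℤ) :
    compHom ℳ j x = if j = i then x else 0 := by
  rw [compHom_apply]
  split_ifs with h
  · subst h; exact DirectSum.decompose_of_mem_same ℳ hx
  · exact DirectSum.decompose_of_mem_ne ℳ hx (Ne.symm h)

open scoped Classical in
lemma compHom_fin (x : M) : (∀ j, j ∉ (DirectSum.decompose ℳ x).support → compHom ℳ j x = 0) ∧
    x = ∑ j ∈ (DirectSum.decompose ℳ x).support, compHom ℳ j x := by
  constructor
  · intro j hj
    rw [DFinsupp.notMem_support_iff] at hj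
    rw [compHom_apply, hj]; rfl
  · exact (DirectSum.sum_support_decompose ℳ x).symm

include 𝒜 in
lemma compHom_smul (e : ℤ) (p : S) (hp : p ∈ 𝒜 e) (j : ℤ) (x : M) :
    compHom ℳ j (p • x) = p • compHom ℳ (j - e) x := by
  classical
  obtain ⟨h0, hx⟩ := compHom_fin ℳ x
  set s := (DirectSum.decompose ℳ x).support
  have h1 : compHom ℳ j (p • x) = ∑ i ∈ s, compHom ℳ j (p • compHom ℳ i x) := by
    conv_lhs => rw [hx, Finset.smul_sum, map_sum]
  have h2 : ∀ i ∈ s, compHom ℳ j (p • compHom ℳ i x) =
      if i = j - e then p • compHom ℳ (j - e) x else 0 := by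
    intro i _
    have hm : p • compHom ℳ i x ∈ ℳ (e + i) :=
      SetLike.GradedSMul.smul_mem hp (compHom_mem ℳ i x)
    rw [compHom_of_mem ℳ hm]
    by_cases hij : i = j - e
    · subst hij
      rw [if_pos (by ring), if_pos rfl]
    · rw [if_neg (by omega), if_neg hij]
  rw [h1, Finset.sum_congr rfl h2, Finset.sum_ite_eq']
  split_ifs with hmem
  · rfl
  · rw [h0 _ hmem, smul_zero]

/-- the component structure of a graded module -/
noncomputable def modComps : Comps 𝒜 M where
  c := compHom ℳ
  orth i j x := by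
    rw [compHom_of_mem ℳ (compHom_mem ℳ j x)]
  fin x := by
    classical
    exact ⟨_, compHom_fin ℳ x⟩
  smul := compHom_smul 𝒜 ℳ

lemma modComps_isHom_iff (e : ℤ) (x : M) : (modComps 𝒜 ℳ).IsHom e x ↔ x ∈ ℳ e := by
  constructor
  · intro h
    have : compHom ℳ e x = x := h
    rw [← this]
    exact compHom_mem ℳ e x
  · intro h
    show compHom ℳ e x = x
    rw [compHom_of_mem ℳ h, if_pos rfl]

/-- the component structure of the ring -/
noncomputable def ringComps : Comps 𝒜 S := modComps 𝒜 𝒜

lemma ringComps_c_mem (j : ℤ) (p : S) : (ringComps 𝒜).c j p ∈ 𝒜 j := compHom_mem 𝒜 j p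

/-- the component structure of a shifted free module -/
noncomputable def shiftComps (n : ℕ) (deg : Fin n → ℤ) : Comps 𝒜 (Fin n → S) where
  c j :=
    { toFun := fun v a => (ringComps 𝒜).c (j - deg a) (v a)
      map_zero' := by funext a; simp
      map_add' := by intro v w; funext a; simp }
  orth i j v := by
    funext a
    show (ringComps 𝒜).c (i - deg a) ((ringComps 𝒜).c (j - deg a) (v a)) = _
    rw [(ringComps 𝒜).orth]
    by_cases hij : i = j
    · subst hij; simp
    · rw [if_neg (by omega), if_neg hij]; rfl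
  fin v := by
    classical
    choose s hs0 hs using (ringComps 𝒜).fin
    refine ⟨Finset.univ.biUnion (fun a => (s (v a)).image (fun i => i + deg a)), ?_, ?_⟩
    · intro j hj
      funext a
      show (ringComps 𝒜).c (j - deg a) (v a) = 0
      apply hs0
      intro hmem
      apply hj
      rw [Finset.mem_biUnion]
      exact ⟨a, Finset.mem_univ _, Finset.mem_image.2 ⟨j - deg a, hmem, by ring⟩⟩
    · funext a
      rw [Finset.sum_apply]
      show v a = ∑ j ∈ _, (ringComps 𝒜).c (j - deg a) (v a)
      set t := Finset.univ.biUnion (fun a => (s (v a)).image (fun i => i + deg a))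
      have hsub : (s (v a)).image (fun i => i + deg a) ⊆ t :=
        Finset.subset_biUnion_of_mem (fun a => (s (v a)).image (fun i => i + deg a))
          (Finset.mem_univ a)
      rw [← Finset.sum_subset hsub]
      · rw [Finset.sum_image (by intro x _ y _ h; simpa using h)]
        conv_lhs => rw [hs (v a)]
        apply Finset.sum_congr rfl
        intro i _
        rw [add_sub_cancel_right]
      · intro j _ hj
        apply hs0
        intro hmem
        exact hj (Finset.mem_image.2 ⟨j - deg a, hmem, by ring⟩)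
  smul e p hp j v := by
    funext a
    show (ringComps 𝒜).c (j - deg a) (p • v a) = p • (ringComps 𝒜).c (j - e - deg a) (v a)
    rw [(ringComps 𝒜).smul e p hp, sub_right_comm]

lemma shiftComps_c_apply (n : ℕ) (deg : Fin n → ℤ) (j : ℤ) (v : Fin n → S) (a : Fin n) :
    (shiftComps 𝒜 n deg).c j v a = (ringComps 𝒜).c (j - deg a) (v a) := rfl

lemma shiftComps_isHom_iff (n : ℕ) (deg : Fin n → ℤ) (j : ℤ) (v : Fin n → S) :
    (shiftComps 𝒜 n deg).IsHom j v ↔ ∀ a, v a ∈ 𝒜 (j - deg a) := by
  constructor
  · intro h a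
    have : (shiftComps 𝒜 n deg).c j v a = v a := congrFun h a
    rw [← this]
    exact ringComps_c_mem 𝒜 _ _
  · intro h
    funext a
    exact (modComps_isHom_iff 𝒜 𝒜 _ _).2 (h a)


section lincomb

variable {N : Type v} [AddCommGroup N] [Module S N] (C : Comps 𝒜 N)

/-- components of a multiple of a homogeneous element -/
lemma c_smul_of_isHom {d : ℤ} {x : N} (hx : C.IsHom d x) (q : S) (j : ℤ) :
    C.c j (q • x) = (ringComps 𝒜).c (j - d) q • x := by
  classical
  obtain ⟨s, hs0, hs⟩ := (ringComps 𝒜).fin q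
  have h1 : C.c j (q • x) = ∑ i ∈ s, C.c j ((ringComps 𝒜).c i q • x) := by
    conv_lhs => rw [hs, Finset.sum_smul, map_sum]
  have h2 : ∀ i ∈ s, C.c j ((ringComps 𝒜).c i q • x) =
      if i = j - d then (ringComps 𝒜).c (j - d) q • x else 0 := by
    intro i _
    rw [C.smul i _ (ringComps_c_mem 𝒜 i q), C.c_of_isHom hx]
    by_cases hij : i = j - d
    · subst hij
      rw [if_pos (by ring), if_pos rfl]
    · rw [if_neg (by omega), if_neg hij, smul_zero]
  rw [h1, Finset.sum_congr rfl h2, Finset.sum_ite_eq']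
  split_ifs with hmem
  · rfl
  · rw [hs0 _ hmem, zero_smul]

/-- linear combinations of homogeneous elements commute with components -/
theorem c_linearCombination {m : ℕ} (g : Fin m → N) (e : Fin m → ℤ)
    (hg : ∀ b, C.IsHom (e b) (g b)) (j : ℤ) (w : Fin m → S) :
    C.c j (Fintype.linearCombination S g w) =
      Fintype.linearCombination S g ((shiftComps 𝒜 m e).c j w) := by
  rw [Fintype.linearCombination_apply, Fintype.linearCombination_apply, map_sum]
  apply Finset.sum_congr rfl
  intro b _
  rw [c_smul_of_isHom 𝒜 C (hg b)]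
  rfl

/-- the kernel of a degree-preserving map from a shifted free module is homogeneous -/
theorem isHomog_ker_linearCombination {m : ℕ} (g : Fin m → N) (e : Fin m → ℤ)
    (hg : ∀ b, C.IsHom (e b) (g b)) :
    (shiftComps 𝒜 m e).IsHomog (LinearMap.ker (Fintype.linearCombination S g)) := by
  intro w hw j
  rw [LinearMap.mem_ker] at hw ⊢
  rw [← c_linearCombination 𝒜 C g e hg, hw, map_zero]

end lincomb

end instances

end Groth.Agent.Helper9.GrMod
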