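import Mathlib
import Groth.Prelude.Def_GrSyz
import Groth.Agent.Lib.Helper9.GrMod.Comps

/-!
# Construction of a graded free resolution with irredundant generators (helper9)

Over a Noetherian ℤ-graded ring `(S, 𝒜)`, every finitely generated graded module `(M, ℳ)` has a
`GrSyz.FreeRes 𝒜 ℳ` in which the images of the bases are irredundant homogeneous generators at
every step (`freeRes`, `freeRes_aug_irred`, `freeRes_d_irred`).
-/

set_option autoImplicit false
set_option linter.unusedSectionVars false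
universe u

namespace Groth.Agent.Helper9.GrMod

variable {S : Type u} [CommRing S] [IsNoetherianRing S] {σ' : Type u} [SetLike σ' S]
  [AddSubgroupClass σ' S] (𝒜 : ℤ → σ') [GradedRing 𝒜]

lemma mulVecLin_eq_linearCombination {m n : ℕ} (D : Matrix (Fin m) (Fin n) S) :
    Matrix.mulVecLin D = Fintype.linearCombination S (fun b a => D a b) := by
  apply LinearMap.ext
  intro v
  funext a
  rw [Matrix.mulVecLin_apply, Fintype.linearCombination_apply, Finset.sum_apply]
  show ∑ b, D a b * v b = _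
  apply Finset.sum_congr rfl
  intro b _
  rw [Pi.smul_apply, smul_eq_mul, mul_comm]

/-- state of the construction: a homogeneous submodule of a shifted free module -/
structure St where
  n : ℕ
  deg : Fin n → ℤ
  K : Submodule S (Fin n → S)
  hK : (shiftComps 𝒜 n deg).IsHomog K

/-- one step: irredundant homogeneous generators of `K`, as a matrix -/
structure StepOut (s : St 𝒜) where
  n' : ℕ
  deg' : Fin n' → ℤ
  D : Matrix (Fin s.n) (Fin n') S
  hom : ∀ a b, D a b ∈ 𝒜 (deg' b - s.deg a)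
  range_eq : LinearMap.range (Matrix.mulVecLin D) = s.K
  irred : ∀ b, (fun a => D a b) ∉ Submodule.span S ((fun b' a => D a b') '' {b' | b' ≠ b})

theorem exists_stepOut (s : St 𝒜) : Nonempty (StepOut 𝒜 s) := by
  have hfg : s.K.FG := IsNoetherian.noetherian s.K
  obtain ⟨m, g, e, hg, hspan, hirr⟩ := (shiftComps 𝒜 s.n s.deg).exists_irred_gens s.K s.hK hfg
  refine ⟨⟨m, e, Matrix.of (fun a b => g b a), ?_, ?_, ?_⟩⟩
  · intro a b
    exact (shiftComps_isHom_iff 𝒜 s.n s.deg (e b) (g b)).1 (hg b) a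
  · rw [mulVecLin_eq_linearCombination]
    show LinearMap.range (Fintype.linearCombination S g) = s.K
    rw [Fintype.range_linearCombination, hspan]
  · exact hirr

/-- the next state -/
noncomputable def next (s : St 𝒜) (o : StepOut 𝒜 s) : St 𝒜 where
  n := o.n'
  deg := o.deg'
  K := LinearMap.ker (Matrix.mulVecLin o.D)
  hK := by
    rw [mulVecLin_eq_linearCombination]
    apply isHomog_ker_linearCombination 𝒜 (shiftComps 𝒜 s.n s.deg)
    intro b
    exact (shiftComps_isHom_iff 𝒜 s.n s.deg (o.deg' b) _).2 (fun a => o.hom a b)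

noncomputable def out (s : St 𝒜) : StepOut 𝒜 s := Classical.choice (exists_stepOut 𝒜 s)

/-- the sequence of states -/
noncomputable def seq (s₀ : St 𝒜) : ℕ → St 𝒜 :=
  fun i => Nat.rec s₀ (fun _ s => next 𝒜 s (out 𝒜 s)) i

lemma seq_succ (s₀ : St 𝒜) (i : ℕ) : seq 𝒜 s₀ (i + 1) = next 𝒜 (seq 𝒜 s₀ i) (out 𝒜 (seq 𝒜 s₀ i)) := rfl

section module
variable {M : Type u} [AddCommGroup M] [Module S M] [Module.Finite S M] {τ : Type u} [SetLike τ M]
  [AddSubgroupClass τ M] (ℳ : ℤ → τ) [DirectSum.Decomposition ℳ] [SetLike.GradedSMul 𝒜 ℳ]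

/-- initial data: irredundant homogeneous generators of `M` -/
structure Init where
  n : ℕ
  deg : Fin n → ℤ
  aug : Fin n → M
  aug_mem : ∀ b, aug b ∈ ℳ (deg b)
  surj : Function.Surjective (Fintype.linearCombination S aug)
  irred : ∀ b, aug b ∉ Submodule.span S (aug '' {b' | b' ≠ b})

include 𝒜 in
theorem exists_init : Nonempty (Init (S := S) ℳ) := by
  have hfg : (⊤ : Submodule S M).FG := Module.Finite.fg_top
  obtain ⟨m, g, e, hg, hspan, hirr⟩ := (modComps 𝒜 ℳ).exists_irred_gens ⊤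
    (fun _ _ _ => Submodule.mem_top) hfg
  refine ⟨⟨m, e, g, fun b => (modComps_isHom_iff 𝒜 ℳ _ _).1 (hg b), ?_, hirr⟩⟩
  rw [← LinearMap.range_eq_top, Fintype.range_linearCombination, hspan]

noncomputable def init0 (I : Init (S := S) ℳ) : St 𝒜 where
  n := I.n
  deg := I.deg
  K := LinearMap.ker (Fintype.linearCombination S I.aug)
  hK := isHomog_ker_linearCombination 𝒜 (modComps 𝒜 ℳ) I.aug I.deg
    (fun b => (modComps_isHom_iff 𝒜 ℳ _ _).2 (I.aug_mem b))

/-- the resolution -/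
noncomputable def freeRes (I : Init (S := S) ℳ) : GrSyz.FreeRes 𝒜 ℳ where
  rk i := (seq 𝒜 (init0 𝒜 ℳ I) i).n
  deg i := (seq 𝒜 (init0 𝒜 ℳ I) i).deg
  d i := (out 𝒜 (seq 𝒜 (init0 𝒜 ℳ I) i)).D
  aug := I.aug
  d_mem i a b := (out 𝒜 (seq 𝒜 (init0 𝒜 ℳ I) i)).hom a b
  aug_mem := I.aug_mem
  aug_surjective := I.surj
  exact_zero := (out 𝒜 (seq 𝒜 (init0 𝒜 ℳ I) 0)).range_eq.symm
  exact_succ i := (out 𝒜 (seq 𝒜 (init0 𝒜 ℳ I) (i + 1))).range_eq.symm

lemma freeRes_aug_irred (I : Init (S := S) ℳ) (b : Fin ((freeRes 𝒜 ℳ I).rk 0)) :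
    (freeRes 𝒜 ℳ I).aug b ∉ Submodule.span S ((freeRes 𝒜 ℳ I).aug '' {b' | b' ≠ b}) :=
  I.irred b

lemma freeRes_d_irred (I : Init (S := S) ℳ) (i : ℕ) (b : Fin ((freeRes 𝒜 ℳ I).rk (i + 1))) :
    (fun a => (freeRes 𝒜 ℳ I).d i a b) ∉
      Submodule.span S ((fun b' a => (freeRes 𝒜 ℳ I).d i a b') '' {b' | b' ≠ b}) :=
  (out 𝒜 (seq 𝒜 (init0 𝒜 ℳ I) i)).irred b

end module

end Groth.Agent.Helper9.GrMod
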