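import Mathlib
import Groth.Prelude.Def_GrSyz
import Groth.Agent.Lib.Helper9.GrMod.MinRes
import Groth.Agent.S15427

/-!
# Uniqueness of minimal homogeneous generators up to graded isomorphism (helper9)

* `det_mem_zero`, `mul_mem_graded`: graded matrices.
* `Comps.restrict`: component structure on a homogeneous submodule.
* `exists_graded_lift`: degree-preserving lifts through graded surjections from shifted free modules.
* `compare_same`, `compare` (polynomial ring over a field, standard grading): two minimal
  homogeneous systems of generators have the same degree multiset and are related by a graded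
  isomorphism of the free covers.
-/

set_option autoImplicit false
set_option linter.unusedSectionVars false
universe u v

namespace Groth.Agent.Helper9.GrMod

section det
variable {S : Type u} [CommRing S] {σ' : Type*} [SetLike σ' S]
  [AddSubgroupClass σ' S] (𝒜 : ℤ → σ') [GradedRing 𝒜]

lemma mulVecLin_eq_lc {m n : ℕ} (D : Matrix (Fin m) (Fin n) S) :
    Matrix.mulVecLin D = Fintype.linearCombination S (fun b a => D a b) := by
  apply LinearMap.ext
  intro v
  funext a
  rw [Matrix.mulVecLin_apply, Fintype.linearCombination_apply, Finset.sum_apply]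
  show ∑ b, D a b * v b = _
  apply Finset.sum_congr rfl
  intro b _
  rw [Pi.smul_apply, smul_eq_mul, mul_comm]

/-- the determinant of a graded endomorphism matrix is homogeneous of degree zero -/
theorem det_mem_zero {m : ℕ} (e : Fin m → ℤ) (Γ : Matrix (Fin m) (Fin m) S)
    (hΓ : ∀ a b, Γ a b ∈ 𝒜 (e b - e a)) : Γ.det ∈ 𝒜 0 := by
  rw [Matrix.det_apply]
  apply sum_mem
  intro σ _
  have h1 : ∏ i, Γ (σ i) i ∈ 𝒜 (∑ i, (e i - e (σ i))) :=
    SetLike.prod_mem_graded 𝒜 _ _ (fun i _ => hΓ (σ i) i)
  have h2 : ∑ i, (e i - e (σ i)) = 0 := by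
    rw [Finset.sum_sub_distrib, Equiv.sum_comp σ e, sub_self]
  rw [h2] at h1
  rcases Int.units_eq_one_or (Equiv.Perm.sign σ) with h | h
  · rw [h, one_smul]; exact h1
  · rw [h, Units.neg_smul, one_smul]; exact neg_mem h1

/-- product of graded matrices -/
theorem mul_mem_graded {m m' m'' : ℕ} (e : Fin m → ℤ) (e' : Fin m' → ℤ) (e'' : Fin m'' → ℤ)
    (A : Matrix (Fin m') (Fin m) S) (B : Matrix (Fin m'') (Fin m') S)
    (hA : ∀ a b, A a b ∈ 𝒜 (e b - e' a)) (hB : ∀ a b, B a b ∈ 𝒜 (e' b - e'' a)) :
    ∀ a b, (B * A) a b ∈ 𝒜 (e b - e'' a) := by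
  intro a b
  rw [Matrix.mul_apply]
  apply sum_mem
  intro c _
  have := SetLike.mul_mem_graded (hB a c) (hA c b)
  have h2 : e' c - e'' a + (e b - e' c) = e b - e'' a := by ring
  rw [h2] at this
  exact this

end det

section generic
variable {S : Type u} [CommRing S] {σ' : Type*} [SetLike σ' S]
  [AddSubgroupClass σ' S] (𝒜 : ℤ → σ') [GradedRing 𝒜]
variable {N : Type v} [AddCommGroup N] [Module S N] (C : Comps 𝒜 N)

/-- restriction of a component structure to a homogeneous submodule -/
def Comps.restrict (K : Submodule S N) (hK : C.IsHomog K) : Comps 𝒜 K where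
  c j :=
    { toFun := fun x => ⟨C.c j x.1, hK x.1 x.2 j⟩
      map_zero' := by ext; simp
      map_add' := by intro x y; ext; simp }
  orth i j x := by
    ext
    show C.c i (C.c j x.1) = _
    rw [C.orth]
    split_ifs <;> rfl
  fin x := by
    obtain ⟨s, hs0, hs⟩ := C.fin x.1
    refine ⟨s, fun j hj => ?_, ?_⟩
    · ext; exact hs0 j hj
    · ext
      rw [AddSubmonoidClass.coe_finsetSum]
      exact hs
  smul e p hp j x := by
    ext
    exact C.smul e p hp j x.1

lemma Comps.restrict_c_coe (K : Submodule S N) (hK : C.IsHomog K) (j : ℤ) (x : K) :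
    (((C.restrict 𝒜 K hK).c j x : K) : N) = C.c j x.1 := rfl

lemma Comps.restrict_isHom_iff (K : Submodule S N) (hK : C.IsHomog K) (e : ℤ) (x : K) :
    (C.restrict 𝒜 K hK).IsHom e x ↔ C.IsHom e x.1 := by
  unfold Comps.IsHom
  rw [Subtype.ext_iff]
  rfl

/-- graded lifting through a surjection from a shifted free module -/
theorem exists_graded_lift {m' : ℕ} (g' : Fin m' → N) (e' : Fin m' → ℤ)
    (hg' : ∀ a, C.IsHom (e' a) (g' a)) (hsurj : Submodule.span S (Set.range g') = ⊤)
    {m : ℕ} (g : Fin m → N) (e : Fin m → ℤ) (hg : ∀ b, C.IsHom (e b) (g b)) :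
    ∃ A : Matrix (Fin m') (Fin m) S, (∀ a b, A a b ∈ 𝒜 (e b - e' a)) ∧
      ∀ w, Fintype.linearCombination S g' (A.mulVecLin w) = Fintype.linearCombination S g w := by
  have hsurj' : Function.Surjective (Fintype.linearCombination S g') := by
    rw [← LinearMap.range_eq_top, Fintype.range_linearCombination, hsurj]
  choose w0 hw0 using fun b => hsurj' (g b)
  -- take homogeneous components
  let w1 : Fin m → (Fin m' → S) := fun b => (shiftComps 𝒜 m' e').c (e b) (w0 b)
  have hw1 : ∀ b, Fintype.linearCombination S g' (w1 b) = g b := by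
    intro b
    rw [← c_linearCombination 𝒜 C g' e' hg', hw0]
    exact hg b
  have hw1h : ∀ b, (shiftComps 𝒜 m' e').IsHom (e b) (w1 b) :=
    fun b => (shiftComps 𝒜 m' e').isHom_c _ _
  refine ⟨Matrix.of (fun a b => w1 b a), ?_, ?_⟩
  · intro a b
    exact (shiftComps_isHom_iff 𝒜 m' e' (e b) (w1 b)).1 (hw1h b) a
  · intro w
    rw [mulVecLin_eq_lc]
    show Fintype.linearCombination S g' (Fintype.linearCombination S w1 w) = _
    have h1 : Fintype.linearCombination S w1 w = ∑ b, w b • w1 b :=
      Fintype.linearCombination_apply S w1 w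
    rw [h1, map_sum, Fintype.linearCombination_apply S g]
    apply Finset.sum_congr rfl
    intro b _
    rw [map_smul, hw1]

end generic

section poly
open MvPolynomial Groth.Agent.S15436.Aux Groth.Agent.S15427.Aux

variable (k : Type u) [Field k] (σ : Type) [Fintype σ]


lemma constantCoeff_eq_zero_of_mem {d : ℤ} (hd : d ≠ 0) (p : (MvPolynomial σ k)) (hp : p ∈ (GrSyz.stdGr k σ) d) :
    constantCoeff p = 0 := by
  rw [constantCoeff_eq]
  by_contra hne
  have := hp hne
  rw [map_zero] at this
  exact hd this.symm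

lemma mem_irrel_iff (p : (MvPolynomial σ k)) : p ∈ (GrSyz.irrel (GrSyz.stdGr k σ)).toIdeal ↔ constantCoeff p = 0 := by
  rw [irrel_eq, RingHom.mem_ker]

variable {N : Type v} [AddCommGroup N] [Module (MvPolynomial σ k) N] (C : Comps (GrSyz.stdGr k σ) N)

/-- comparison of two minimal homogeneous systems of generators of the same graded module -/
theorem compare_same {m m' : ℕ} (g : Fin m → N) (e : Fin m → ℤ) (hg : ∀ b, C.IsHom (e b) (g b))
    (hsurj : Submodule.span (MvPolynomial σ k) (Set.range g) = ⊤)
    (hmin : ∀ w ∈ LinearMap.ker (Fintype.linearCombination (MvPolynomial σ k) g), ∀ b, w b ∈ (GrSyz.irrel (GrSyz.stdGr k σ)).toIdeal)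
    (g' : Fin m' → N) (e' : Fin m' → ℤ) (hg' : ∀ a, C.IsHom (e' a) (g' a))
    (hsurj' : Submodule.span (MvPolynomial σ k) (Set.range g') = ⊤)
    (hmin' : ∀ w ∈ LinearMap.ker (Fintype.linearCombination (MvPolynomial σ k) g'), ∀ a, w a ∈ (GrSyz.irrel (GrSyz.stdGr k σ)).toIdeal) :
    (∀ j : ℤ, (Finset.univ.filter (fun b => e b = j)).card =
      (Finset.univ.filter (fun a => e' a = j)).card) ∧
    ∃ Θ : (Fin m → (MvPolynomial σ k)) ≃ₗ[(MvPolynomial σ k)] (Fin m' → (MvPolynomial σ k)),
      (∀ j w, Θ ((shiftComps (GrSyz.stdGr k σ) m e).c j w) = (shiftComps (GrSyz.stdGr k σ) m' e').c j (Θ w)) ∧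
      ∀ w, Fintype.linearCombination (MvPolynomial σ k) g' (Θ w) = Fintype.linearCombination (MvPolynomial σ k) g w := by
  classical
  obtain ⟨A, hA, hAeq⟩ := exists_graded_lift (GrSyz.stdGr k σ) C g' e' hg' hsurj' g e hg
  obtain ⟨A', hA', hA'eq⟩ := exists_graded_lift (GrSyz.stdGr k σ) C g e hg hsurj g' e' hg'
  -- Γ = A' A is the identity modulo (GrSyz.irrel (GrSyz.stdGr k σ)).toIdeal
  have key : ∀ {n n' : ℕ} (f : Fin n → N) (f' : Fin n' → N)
      (B : Matrix (Fin n') (Fin n) (MvPolynomial σ k)) (B' : Matrix (Fin n) (Fin n') (MvPolynomial σ k))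
      (hB : ∀ w, Fintype.linearCombination (MvPolynomial σ k) f' (B.mulVecLin w) = Fintype.linearCombination (MvPolynomial σ k) f w)
      (hB' : ∀ w, Fintype.linearCombination (MvPolynomial σ k) f (B'.mulVecLin w) = Fintype.linearCombination (MvPolynomial σ k) f' w)
      (hm : ∀ w ∈ LinearMap.ker (Fintype.linearCombination (MvPolynomial σ k) f), ∀ b, w b ∈ (GrSyz.irrel (GrSyz.stdGr k σ)).toIdeal),
      (B' * B).map constantCoeff = 1 := by
    intro n n' f f' B B' hB hB' hm
    ext a b
    have hk : (B' * B).mulVecLin (Pi.single b 1) - Pi.single b 1 ∈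
        LinearMap.ker (Fintype.linearCombination (MvPolynomial σ k) f) := by
      rw [LinearMap.mem_ker, map_sub, Matrix.mulVecLin_mul, LinearMap.comp_apply, hB', hB, sub_self]
    have h1 := hm _ hk a
    rw [mem_irrel_iff, Pi.sub_apply, map_sub, sub_eq_zero, Matrix.mulVecLin_apply,
      Matrix.mulVec_single_one] at h1
    have h1' : constantCoeff ((B' * B) a b) = constantCoeff ((Pi.single b 1 : Fin n → MvPolynomial σ k) a) := h1
    rw [Matrix.map_apply, h1', Matrix.one_apply, Pi.single_apply]
    split_ifs <;> simp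
  have hΓ : (A' * A).map constantCoeff = 1 := key g g' A A' hAeq hA'eq hmin
  have hΓ' : (A * A').map constantCoeff = 1 := key g' g A' A hA'eq hAeq hmin'
  -- block structure
  have hblock : ∀ a b, A.map constantCoeff a b ≠ 0 → e b = e' a := by
    intro a b h
    by_contra hne
    exact h (constantCoeff_eq_zero_of_mem k σ (sub_ne_zero.2 hne) _ (hA a b))
  have hblock' : ∀ b a, A'.map constantCoeff b a ≠ 0 → e' a = e b := by
    intro b a h
    by_contra hne
    exact h (constantCoeff_eq_zero_of_mem k σ (sub_ne_zero.2 hne) _ (hA' b a))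
  refine ⟨?_, ?_⟩
  · -- counting
    have count : ∀ {n n' : ℕ} (d : Fin n → ℤ) (d' : Fin n' → ℤ) (P : Matrix (Fin n') (Fin n) k)
        (P' : Matrix (Fin n) (Fin n') k) (hPP : P' * P = 1)
        (hP : ∀ a b, P a b ≠ 0 → d b = d' a) (j : ℤ),
        (Finset.univ.filter (fun b => d b = j)).card ≤
          (Finset.univ.filter (fun a => d' a = j)).card := by
      intro n n' d d' P P' hPP hP j
      let B := {b : Fin n // d b = j}
      let B' := {a : Fin n' // d' a = j}
      let Pj : Matrix B' B k := P.submatrix Subtype.val Subtype.val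
      let P'j : Matrix B B' k := P'.submatrix Subtype.val Subtype.val
      have hone : P'j * Pj = 1 := by
        ext b b2
        rw [Matrix.mul_apply, Matrix.one_apply]
        have h1 : (P' * P) b.1 b2.1 = (1 : Matrix (Fin n) (Fin n) k) b.1 b2.1 := by rw [hPP]
        rw [Matrix.mul_apply, Matrix.one_apply] at h1
        have h2 : ∑ a : B', P'j b a * Pj a b2 = ∑ a : Fin n', P' b.1 a * P a b2.1 := by
          have h3 : ∑ a : B', P'j b a * Pj a b2 =
              ∑ a ∈ Finset.univ.filter (fun a => d' a = j), P' b.1 a * P a b2.1 :=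
            (Finset.sum_subtype (Finset.univ.filter (fun a => d' a = j))
              (fun a => by simp) (fun a => P' b.1 a * P a b2.1)).symm
          rw [h3]
          apply Finset.sum_subset (Finset.subset_univ _)
          intro a _ ha
          rw [Finset.mem_filter] at ha
          have : P a b2.1 = 0 := by
            by_contra hne
            have := hP a b2.1 hne
            exact ha ⟨Finset.mem_univ _, by rw [← this]; exact b2.2⟩
          rw [this, mul_zero]
        rw [h2, h1]
        by_cases hbb : b = b2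
        · subst hbb; simp
        · have hne : b.1 ≠ b2.1 := fun h' => hbb (Subtype.ext h')
          rw [if_neg hne, if_neg hbb]
      have hinj : Function.Injective Pj.mulVecLin := by
        have : P'j.mulVecLin.comp Pj.mulVecLin = LinearMap.id := by
          rw [← Matrix.mulVecLin_mul, hone, Matrix.mulVecLin_one]
        exact Function.LeftInverse.injective (g := P'j.mulVecLin)
          (fun x => LinearMap.congr_fun this x)
      have hle := LinearMap.finrank_le_finrank_of_injective hinj
      rw [Module.finrank_fintype_fun_eq_card, Module.finrank_fintype_fun_eq_card] at hle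
      rw [← Fintype.card_subtype, ← Fintype.card_subtype]
      exact hle
    intro j
    apply le_antisymm
    · exact count e e' (A.map constantCoeff) (A'.map constantCoeff)
        (by rw [← Matrix.map_mul]; exact hΓ) hblock j
    · exact count e' e (A'.map constantCoeff) (A.map constantCoeff)
        (by rw [← Matrix.map_mul]; exact hΓ') hblock' j
  · -- the isomorphism
    have unit : ∀ {n : ℕ} (d : Fin n → ℤ) (G : Matrix (Fin n) (Fin n) (MvPolynomial σ k))
        (hG : ∀ a b, G a b ∈ (GrSyz.stdGr k σ) (d b - d a)) (hG1 : G.map constantCoeff = 1), IsUnit G := by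
      intro n d G hG hG1
      rw [Matrix.isUnit_iff_isUnit_det]
      apply isUnit_of_not_mem_irrel k σ _ 0 (det_mem_zero (GrSyz.stdGr k σ) d G hG)
      rw [mem_irrel_iff]
      have : constantCoeff G.det = (G.map constantCoeff).det := by
        rw [RingHom.map_det]; rfl
      rw [this, hG1, Matrix.det_one]
      exact one_ne_zero
    have hU : IsUnit (A' * A) := unit e _ (mul_mem_graded (GrSyz.stdGr k σ) e e' e A A' hA hA') hΓ
    have hU' : IsUnit (A * A') := unit e' _ (mul_mem_graded (GrSyz.stdGr k σ) e' e e' A' A hA' hA) hΓ'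
    have hinj : Function.Injective A.mulVecLin := by
      have h1 : Function.Injective (A' * A).mulVecLin := Matrix.mulVec_injective_of_isUnit hU
      rw [Matrix.mulVecLin_mul, LinearMap.coe_comp] at h1
      exact Function.Injective.of_comp h1
    have hsur : Function.Surjective A.mulVecLin := by
      have h1 : Function.Surjective (A * A').mulVecLin := Matrix.mulVec_surjective_iff_isUnit.2 hU'
      rw [Matrix.mulVecLin_mul, LinearMap.coe_comp] at h1
      exact Function.Surjective.of_comp h1
    refine ⟨LinearEquiv.ofBijective A.mulVecLin ⟨hinj, hsur⟩, ?_, ?_⟩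
    · intro j w
      show A.mulVecLin _ = (shiftComps (GrSyz.stdGr k σ) m' e').c j (A.mulVecLin w)
      rw [mulVecLin_eq_lc]
      symm
      apply c_linearCombination (GrSyz.stdGr k σ) (shiftComps (GrSyz.stdGr k σ) m' e') _ e
      intro b
      exact (shiftComps_isHom_iff (GrSyz.stdGr k σ) m' e' (e b) _).2 (fun a => hA a b)
    · intro w
      exact hAeq w


variable {N' : Type v} [AddCommGroup N'] [Module (MvPolynomial σ k) N'] (C' : Comps (GrSyz.stdGr k σ) N')

/-- comparison of minimal homogeneous systems of generators of two isomorphic graded modules -/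
theorem compare (θ : N ≃ₗ[MvPolynomial σ k] N') (hθ : ∀ j x, θ (C.c j x) = C'.c j (θ x))
    {m m' : ℕ} (g : Fin m → N) (e : Fin m → ℤ) (hg : ∀ b, C.IsHom (e b) (g b))
    (hsurj : Submodule.span (MvPolynomial σ k) (Set.range g) = ⊤)
    (hmin : ∀ w ∈ LinearMap.ker (Fintype.linearCombination (MvPolynomial σ k) g), ∀ b,
      w b ∈ (GrSyz.irrel (GrSyz.stdGr k σ)).toIdeal)
    (g' : Fin m' → N') (e' : Fin m' → ℤ) (hg' : ∀ a, C'.IsHom (e' a) (g' a))
    (hsurj' : Submodule.span (MvPolynomial σ k) (Set.range g') = ⊤)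
    (hmin' : ∀ w ∈ LinearMap.ker (Fintype.linearCombination (MvPolynomial σ k) g'), ∀ a,
      w a ∈ (GrSyz.irrel (GrSyz.stdGr k σ)).toIdeal) :
    (∀ j : ℤ, (Finset.univ.filter (fun b => e b = j)).card =
      (Finset.univ.filter (fun a => e' a = j)).card) ∧
    ∃ Θ : (Fin m → MvPolynomial σ k) ≃ₗ[MvPolynomial σ k] (Fin m' → MvPolynomial σ k),
      (∀ j w, Θ ((shiftComps (GrSyz.stdGr k σ) m e).c j w) =
        (shiftComps (GrSyz.stdGr k σ) m' e').c j (Θ w)) ∧
      ∀ w, Fintype.linearCombination (MvPolynomial σ k) g' (Θ w) =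
        θ (Fintype.linearCombination (MvPolynomial σ k) g w) := by
  have hlc : ∀ w, Fintype.linearCombination (MvPolynomial σ k) (fun a => θ.symm (g' a)) w =
      θ.symm (Fintype.linearCombination (MvPolynomial σ k) g' w) := by
    intro w
    rw [Fintype.linearCombination_apply, Fintype.linearCombination_apply, map_sum]
    apply Finset.sum_congr rfl
    intro a _
    rw [map_smul]
  have h1 : ∀ a, C.IsHom (e' a) (θ.symm (g' a)) := by
    intro a
    show C.c (e' a) (θ.symm (g' a)) = θ.symm (g' a)
    apply θ.injective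
    rw [hθ, LinearEquiv.apply_symm_apply]
    exact hg' a
  have h2 : Submodule.span (MvPolynomial σ k) (Set.range (fun a => θ.symm (g' a))) = ⊤ := by
    rw [← Fintype.range_linearCombination, LinearMap.range_eq_top]
    intro x
    have hs : Function.Surjective (Fintype.linearCombination (MvPolynomial σ k) g') := by
      rw [← LinearMap.range_eq_top, Fintype.range_linearCombination, hsurj']
    obtain ⟨w, hw⟩ := hs (θ x)
    exact ⟨w, by rw [hlc, hw, LinearEquiv.symm_apply_apply]⟩
  have h3 : ∀ w ∈ LinearMap.ker (Fintype.linearCombination (MvPolynomial σ k)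
      (fun a => θ.symm (g' a))), ∀ a, w a ∈ (GrSyz.irrel (GrSyz.stdGr k σ)).toIdeal := by
    intro w hw
    apply hmin'
    rw [LinearMap.mem_ker, hlc] at hw
    rw [LinearMap.mem_ker]
    have := congrArg θ hw
    rwa [LinearEquiv.apply_symm_apply, map_zero] at this
  obtain ⟨hcount, Θ, hΘ1, hΘ2⟩ := compare_same k σ C g e hg hsurj hmin _ e' h1 h2 h3
  refine ⟨hcount, Θ, hΘ1, fun w => ?_⟩
  have := hΘ2 w
  rw [hlc] at this
  rw [← this, LinearEquiv.apply_symm_apply]

end poly

end Groth.Agent.Helper9.GrMod
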