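import Mathlib
import Groth.Prelude.Def_GrSyz
import Groth.Agent.Lib.Helper9.GrMod.Unique

/-!
# Graded Betti numbers are independent of the minimal resolution (helper9)

For two minimal graded free resolutions `F`, `F'` (in the sense of `GrSyz.FreeRes`) of a graded
module over a polynomial ring over a field: `betti_eq`, `rk_eq`, `maxGenDeg_eq`.
-/

set_option autoImplicit false
set_option linter.unusedSectionVars false
universe u

namespace Groth.Agent.Helper9.GrMod

open MvPolynomial Groth.Agent.S15436.Aux Groth.Agent.S15427.Aux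

variable (k : Type u) [Field k] (σ : Type) [Fintype σ]
variable {M : Type u} [AddCommGroup M] [Module k M] [Module (MvPolynomial σ k) M]
  (ℳ : ℤ → Submodule k M) [DirectSum.Decomposition ℳ] [SetLike.GradedSMul (GrSyz.stdGr k σ) ℳ]

variable {k σ ℳ}
variable (F : GrSyz.FreeRes (GrSyz.stdGr k σ) ℳ)

/-- the syzygy modules, as submodules of the free modules -/
noncomputable def Kern : (i : ℕ) → Submodule (MvPolynomial σ k) (Fin (F.rk i) → MvPolynomial σ k)
  | 0 => LinearMap.ker (Fintype.linearCombination (MvPolynomial σ k) F.aug)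
  | (i + 1) => LinearMap.ker (Matrix.mulVecLin (F.d i))

lemma Kern_eq_range (i : ℕ) : Kern F i = LinearMap.range (Matrix.mulVecLin (F.d i)) := by
  cases i with
  | zero => exact F.exact_zero
  | succ i => exact F.exact_succ i

lemma Kern_homog (i : ℕ) : (shiftComps (GrSyz.stdGr k σ) (F.rk i) (F.deg i)).IsHomog (Kern F i) := by
  cases i with
  | zero =>
    exact isHomog_ker_linearCombination (GrSyz.stdGr k σ) (modComps (GrSyz.stdGr k σ) ℳ) F.aug
      (F.deg 0) (fun b => (modComps_isHom_iff (GrSyz.stdGr k σ) ℳ _ _).2 (F.aug_mem b))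
  | succ i =>
    show (shiftComps (GrSyz.stdGr k σ) (F.rk (i + 1)) (F.deg (i + 1))).IsHomog
      (LinearMap.ker (Matrix.mulVecLin (F.d i)))
    rw [mulVecLin_eq_lc]
    apply isHomog_ker_linearCombination (GrSyz.stdGr k σ)
      (shiftComps (GrSyz.stdGr k σ) (F.rk i) (F.deg i))
    intro b
    exact (shiftComps_isHom_iff (GrSyz.stdGr k σ) _ _ _ _).2 (fun a => F.d_mem i a b)

lemma Kern_min (hF : F.IsMinimal (GrSyz.irrel (GrSyz.stdGr k σ)).toIdeal) (i : ℕ) :
    ∀ w ∈ Kern F i, ∀ b, w b ∈ (GrSyz.irrel (GrSyz.stdGr k σ)).toIdeal := by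
  intro w hw b
  rw [Kern_eq_range] at hw
  obtain ⟨v, rfl⟩ := hw
  rw [Matrix.mulVecLin_apply]
  show ∑ c, F.d i b c * v c ∈ _
  exact Ideal.sum_mem _ (fun c _ => Ideal.mul_mem_right _ _ (hF i b c))

/-- the columns of `d i` as elements of the syzygy module -/
noncomputable def colK (i : ℕ) (b : Fin (F.rk (i + 1))) : Kern F i :=
  ⟨fun a => F.d i a b, by
    rw [Kern_eq_range]
    exact ⟨Pi.single b 1, by rw [Matrix.mulVecLin_apply, Matrix.mulVec_single_one]; rfl⟩⟩

lemma coe_lc_colK (i : ℕ) (w : Fin (F.rk (i + 1)) → MvPolynomial σ k) :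
    ((Fintype.linearCombination (MvPolynomial σ k) (colK F i) w : Kern F i) :
      Fin (F.rk i) → MvPolynomial σ k) = Matrix.mulVecLin (F.d i) w := by
  rw [Fintype.linearCombination_apply, AddSubmonoidClass.coe_finsetSum, mulVecLin_eq_lc,
    Fintype.linearCombination_apply]
  rfl

lemma lc_colK_eq_zero_iff (i : ℕ) (w : Fin (F.rk (i + 1)) → MvPolynomial σ k) :
    Fintype.linearCombination (MvPolynomial σ k) (colK F i) w = 0 ↔ w ∈ Kern F (i + 1) := by
  rw [Subtype.ext_iff, coe_lc_colK]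
  rfl

lemma span_colK (i : ℕ) : Submodule.span (MvPolynomial σ k) (Set.range (colK F i)) = ⊤ := by
  rw [← Fintype.range_linearCombination, LinearMap.range_eq_top]
  intro x
  have hx : (x : Fin (F.rk i) → MvPolynomial σ k) ∈ LinearMap.range (Matrix.mulVecLin (F.d i)) :=
    (Kern_eq_range F i) ▸ x.2
  obtain ⟨w, hw⟩ := hx
  refine ⟨w, ?_⟩
  apply Subtype.ext
  rw [coe_lc_colK, hw]


variable (F' : GrSyz.FreeRes (GrSyz.stdGr k σ) ℳ)

/-- the comparison datum at level `i` -/
def Q (i : ℕ) : Prop :=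
  ∃ Θ : (Fin (F.rk i) → MvPolynomial σ k) ≃ₗ[MvPolynomial σ k] (Fin (F'.rk i) → MvPolynomial σ k),
    (∀ j w, Θ ((shiftComps (GrSyz.stdGr k σ) (F.rk i) (F.deg i)).c j w) =
      (shiftComps (GrSyz.stdGr k σ) (F'.rk i) (F'.deg i)).c j (Θ w)) ∧
    ∀ w, w ∈ Kern F i ↔ Θ w ∈ Kern F' i

/-- degree counts agree at level `i` -/
def Cnt (i : ℕ) : Prop :=
  ∀ j : ℤ, (Finset.univ.filter (fun b => F.deg i b = j)).card =
    (Finset.univ.filter (fun a => F'.deg i a = j)).card

variable (hF : F.IsMinimal (GrSyz.irrel (GrSyz.stdGr k σ)).toIdeal)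
  (hF' : F'.IsMinimal (GrSyz.irrel (GrSyz.stdGr k σ)).toIdeal)

include hF hF' in
theorem base : Cnt F F' 0 ∧ Q F F' 0 := by
  have hs : ∀ G : GrSyz.FreeRes (GrSyz.stdGr k σ) ℳ,
      Submodule.span (MvPolynomial σ k) (Set.range G.aug) = ⊤ := by
    intro G
    rw [← Fintype.range_linearCombination, LinearMap.range_eq_top]
    exact G.aug_surjective
  obtain ⟨hc, Θ, h1, h2⟩ := compare k σ (modComps (GrSyz.stdGr k σ) ℳ) (modComps (GrSyz.stdGr k σ) ℳ)
    (LinearEquiv.refl _ M) (fun _ _ => rfl) F.aug (F.deg 0)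
    (fun b => (modComps_isHom_iff (GrSyz.stdGr k σ) ℳ _ _).2 (F.aug_mem b)) (hs F)
    (Kern_min F hF 0) F'.aug (F'.deg 0)
    (fun b => (modComps_isHom_iff (GrSyz.stdGr k σ) ℳ _ _).2 (F'.aug_mem b)) (hs F')
    (Kern_min F' hF' 0)
  refine ⟨hc, Θ, h1, fun w => ?_⟩
  show Fintype.linearCombination (MvPolynomial σ k) F.aug w = 0 ↔
    Fintype.linearCombination (MvPolynomial σ k) F'.aug (Θ w) = 0
  rw [h2]
  rfl

include hF hF' in
theorem step (i : ℕ) (hQ : Q F F' i) : Cnt F F' (i + 1) ∧ Q F F' (i + 1) := by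
  obtain ⟨Θ, hΘ1, hΘ2⟩ := hQ
  -- the induced isomorphism of syzygy modules
  let f1 : Kern F i →ₗ[MvPolynomial σ k] Kern F' i :=
    Θ.toLinearMap.restrict (fun w hw => (hΘ2 w).1 hw)
  let f2 : Kern F' i →ₗ[MvPolynomial σ k] Kern F i :=
    Θ.symm.toLinearMap.restrict (fun w hw => (hΘ2 _).2 (by
      show Θ (Θ.symm w) ∈ _
      rw [LinearEquiv.apply_symm_apply]; exact hw))
  let θ : Kern F i ≃ₗ[MvPolynomial σ k] Kern F' i :=
    LinearEquiv.ofLinearMap f1 f2
      (by ext x : 2; exact Θ.apply_symm_apply x.1)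
      (by ext x : 2; exact Θ.symm_apply_apply x.1)
  have hθ : ∀ j x, θ (((shiftComps (GrSyz.stdGr k σ) (F.rk i) (F.deg i)).restrict
      (GrSyz.stdGr k σ) (Kern F i) (Kern_homog F i)).c j x) =
      ((shiftComps (GrSyz.stdGr k σ) (F'.rk i) (F'.deg i)).restrict
      (GrSyz.stdGr k σ) (Kern F' i) (Kern_homog F' i)).c j (θ x) := by
    intro j x
    apply Subtype.ext
    exact hΘ1 j x.1
  have hhom : ∀ (G : GrSyz.FreeRes (GrSyz.stdGr k σ) ℳ) (b : Fin (G.rk (i + 1))),
      ((shiftComps (GrSyz.stdGr k σ) (G.rk i) (G.deg i)).restrict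
      (GrSyz.stdGr k σ) (Kern G i) (Kern_homog G i)).IsHom (G.deg (i + 1) b) (colK G i b) := by
    intro G b
    rw [Comps.restrict_isHom_iff]
    exact (shiftComps_isHom_iff (GrSyz.stdGr k σ) _ _ _ _).2 (fun a => G.d_mem i a b)
  have hmin : ∀ (G : GrSyz.FreeRes (GrSyz.stdGr k σ) ℳ)
      (hG : G.IsMinimal (GrSyz.irrel (GrSyz.stdGr k σ)).toIdeal),
      ∀ w ∈ LinearMap.ker (Fintype.linearCombination (MvPolynomial σ k) (colK G i)), ∀ b,
        w b ∈ (GrSyz.irrel (GrSyz.stdGr k σ)).toIdeal := by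
    intro G hG w hw
    rw [LinearMap.mem_ker, lc_colK_eq_zero_iff] at hw
    exact Kern_min G hG (i + 1) w hw
  obtain ⟨hc, Θ', h1, h2⟩ := compare k σ _ _ θ hθ (colK F i) (F.deg (i + 1)) (hhom F)
    (span_colK F i) (hmin F hF) (colK F' i) (F'.deg (i + 1)) (hhom F') (span_colK F' i)
    (hmin F' hF')
  refine ⟨hc, Θ', h1, fun w => ?_⟩
  rw [← lc_colK_eq_zero_iff, ← lc_colK_eq_zero_iff, h2]
  exact (map_eq_zero_iff θ θ.injective).symm

include hF hF' in
theorem cnt_and_Q (i : ℕ) : Cnt F F' i ∧ Q F F' i := by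
  induction i with
  | zero => exact base F F' hF hF'
  | succ i ih => exact step F F' hF hF' i ih.2

include hF hF' in
/-- **graded Betti numbers are independent of the minimal resolution** -/
theorem betti_eq (i : ℕ) (j : ℤ) : F.betti i j = F'.betti i j :=
  (cnt_and_Q F F' hF hF' i).1 j

include hF hF' in
theorem rk_eq (i : ℕ) : F.rk i = F'.rk i := by
  classical
  have h := fun j => (cnt_and_Q F F' hF hF' i).1 j
  let T : Finset ℤ := (Finset.univ.image (F.deg i)) ∪ (Finset.univ.image (F'.deg i))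
  have h1 : F.rk i = ∑ j ∈ T, (Finset.univ.filter (fun b => F.deg i b = j)).card := by
    rw [← Finset.card_eq_sum_card_fiberwise (f := F.deg i) (s := Finset.univ)]
    · simp
    · intro b _
      simp [T]
  have h2 : F'.rk i = ∑ j ∈ T, (Finset.univ.filter (fun b => F'.deg i b = j)).card := by
    rw [← Finset.card_eq_sum_card_fiberwise (f := F'.deg i) (s := Finset.univ)]
    · simp
    · intro b _
      simp [T]
  exact h1.trans ((Finset.sum_congr rfl (fun j _ => h j)).trans h2.symm)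

include hF hF' in
theorem maxGenDeg_eq (i : ℕ) : F.maxGenDeg i = F'.maxGenDeg i := by
  classical
  have h := fun j => (cnt_and_Q F F' hF hF' i).1 j
  have key : ∀ (G G' : GrSyz.FreeRes (GrSyz.stdGr k σ) ℳ),
      (∀ j : ℤ, (Finset.univ.filter (fun b => G.deg i b = j)).card =
        (Finset.univ.filter (fun a => G'.deg i a = j)).card) → G.maxGenDeg i ≤ G'.maxGenDeg i := by
    intro G G' hh
    unfold GrSyz.FreeRes.maxGenDeg
    apply Finset.sup_le
    intro b _
    have hpos : 0 < (Finset.univ.filter (fun b' => G.deg i b' = G.deg i b)).card :=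
      Finset.card_pos.2 ⟨b, by simp⟩
    rw [hh] at hpos
    obtain ⟨a, ha⟩ := Finset.card_pos.1 hpos
    rw [Finset.mem_filter] at ha
    rw [← ha.2]
    exact Finset.le_sup (f := fun a => ((G'.deg i a : ℤ) : WithBot ℤ)) (Finset.mem_univ a)
  exact le_antisymm (key F F' h) (key F' F (fun j => (h j).symm))

end Groth.Agent.Helper9.GrMod
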